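import Mathlib

/-!
Gauss sums over corners of a finite ring: the multiplicative recursion.
-/

set_option autoImplicit false
set_option linter.unusedSectionVars false

open Finset

namespace CL.K91

open Classical

variable {p : ℕ} [Fact p.Prime] {C : Type*} [Ring C] [Fintype C]

/-- Units supported on the corner of `e`. -/
def Y (e : C) : Subgroup Cˣ where
  carrier := {u | (u : C) * (1 - e) = 1 - e ∧ (1 - e) * (u : C) = 1 - e}
  one_mem' := by simp
  mul_mem' := fun {a b} ha hb => ⟨by rw [Units.val_mul, mul_assoc, hb.1, ha.1],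
    by rw [Units.val_mul, ← mul_assoc, ha.2, hb.2]⟩
  inv_mem' := fun {a} ha => ⟨by rw [Units.inv_mul_eq_iff_eq_mul, ha.1],
    by rw [Units.mul_inv_eq_iff_eq_mul, ha.2]⟩

theorem memY {e : C} {u : Cˣ} : u ∈ Y e ↔ (u : C) * (1 - e) = 1 - e ∧ (1 - e) * (u : C) = 1 - e :=
  Iff.rfl

/-- The two sided piece `e C f`. -/
noncomputable def T (e f : C) : Finset C := univ.filter fun t => e * t * f = t

theorem memT {e f t : C} : t ∈ T e f ↔ e * t * f = t := by simp [T]

/-- The Gauss sum of the corner. -/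
noncomputable def Φ (τ : C →+ ZMod p) (ψ : AddChar (ZMod p) ℂ) (θ : Cˣ →* ℂ) (e : C) : ℂ :=
  ∑ u : Cˣ, if u ∈ Y e then ψ (τ (u * e)) * θ u else 0

/-- The transvection. -/
def nt {e f : C} (h : f * e = 0) (t : C) : Cˣ :=
  ⟨1 + e * t * f, 1 - e * t * f,
    by have : e * t * f * (e * t * f) = e * t * (f * e) * t * f := by noncomm_ring
       rw [h] at this
       simp only [add_mul, mul_sub, one_mul, mul_one, this]; simp,
    by have : e * t * f * (e * t * f) = e * t * (f * e) * t * f := by noncomm_ring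
       rw [h] at this
       simp only [mul_add, sub_mul, one_mul, mul_one, this]; simp⟩

theorem nt_val {e f : C} (h : f * e = 0) (t : C) : (nt h t : C) = 1 + e * t * f := rfl

theorem nt_sq {e f : C} (h : f * e = 0) (t : C) : ((nt h t : C) - 1) * ((nt h t : C) - 1) = 0 := by
  have : e * t * f * (e * t * f) = e * t * (f * e) * t * f := by noncomm_ring
  rw [nt_val, add_sub_cancel_left, this, h]; simp

theorem shift {ψ : AddChar (ZMod p) ℂ} (hψ : ψ ≠ 1) (l : C →+ ZMod p) (S : Finset C) (t0 : C)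
    (h : ∀ t, t ∈ S ↔ t + t0 ∈ S) (h0 : l t0 ≠ 0) : ∑ t ∈ S, ψ (l t) = 0 := by
  have h1 : ∑ t ∈ S, ψ (l (t + t0)) = ∑ t ∈ S, ψ (l t) :=
    Finset.sum_equiv (Equiv.addRight t0) h fun _ _ => rfl
  have h2 : ψ (l t0) ≠ 1 := fun h3 =>
    h0 (((AddChar.IsPrimitive.of_ne_one hψ).zmod_char_eq_one_iff p _).1 h3)
  simp only [map_add, AddChar.map_add_eq_mul, ← Finset.sum_mul] at h1
  have h4 : (∑ t ∈ S, ψ (l t)) * (ψ (l t0) - 1) = 0 := by rw [mul_sub, h1]; simp
  exact (mul_eq_zero.1 h4).resolve_right (sub_ne_zero.2 h2)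

section step

variable {e f : C} (he : e * e = e) (hf : f * f = f) (hef : e * f = 0) (hfe : f * e = 0)
include he hf hef hfe

theorem nt_mem (t : C) : nt hfe t ∈ Y (e + f) := by
  have he' : ∀ x, e * (e * x) = e * x := fun x => by rw [← mul_assoc, he]
  have hfe' : ∀ x, f * (e * x) = 0 := fun x => by rw [← mul_assoc, hfe, zero_mul]
  constructor <;>
    simp only [nt_val, add_mul, mul_add, mul_sub, sub_mul, mul_one, one_mul, mul_assoc, he', hfe',
      hf, hfe, mul_zero, add_zero] <;> abel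

theorem nt_mem' (t : C) : nt hef t ∈ Y (e + f) := by
  rw [add_comm]; exact nt_mem hf he hfe hef t

theorem le_left : Y e ≤ Y (e + f) := fun u hu => by
  have h1 : 1 - (e + f) = (1 - e) * (1 - (e + f)) := by
    simp only [mul_sub, sub_mul, mul_add, one_mul, mul_one, he, hef]; abel
  have h2 : 1 - (e + f) = (1 - (e + f)) * (1 - e) := by
    simp only [mul_sub, sub_mul, add_mul, one_mul, mul_one, he, hfe]; abel
  exact ⟨by rw [h1, ← mul_assoc, hu.1], by rw [h2, mul_assoc, hu.2]⟩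

theorem le_right : Y f ≤ Y (e + f) := by
  rw [add_comm]; exact le_left hf he hfe hef

theorem comm_e {a : Cˣ} (ha : a ∈ Y e) : (a : C) * e = e * a := by
  have := ha.1.trans ha.2.symm
  simp only [mul_sub, sub_mul, mul_one, one_mul] at this
  exact sub_right_injective this

theorem fix_f {a : Cˣ} (ha : a ∈ Y e) : (a : C) * f = f ∧ f * a = f := by
  have h1 : f = (1 - e) * f := by rw [sub_mul, hef]; simp
  have h2 : f = f * (1 - e) := by rw [mul_sub, hfe]; simp
  exact ⟨by rw [h1, ← mul_assoc, ha.1], by rw [h2, mul_assoc, ha.2]⟩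

/-- Block triangular units factor. -/
theorem fac {u : Cˣ} (hu : u ∈ Y (e + f)) (h0 : f * u * e = 0) :
    ∃ a ∈ Y e, ∃ d ∈ Y f, ∃ t ∈ T e f, u = a * d * nt hfe t := by
  have key : ∀ w : Cˣ, w ∈ Y (e + f) → f * w * e = 0 → e * (w * e) = w * e ∧ f * w * f = f * w := by
    intro w hw h
    have h1 := congrArg (· * e) hw.2
    have h2 := congrArg (f * ·) hw.1
    simp only [sub_mul, add_mul, one_mul, he, hfe, h, mul_assoc e] at h1
    simp only [← mul_assoc, mul_sub, mul_add, mul_one, hf, hfe, h] at h2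
    constructor
    · rw [add_zero, add_zero, sub_self, sub_eq_zero] at h1; exact h1.symm
    · simp only [zero_add, sub_self, sub_eq_zero] at h2; exact h2.symm
  have hpow : ∀ n : ℕ, f * ((u ^ n : Cˣ) : C) * e = 0 := by
    intro n
    induction n with
    | zero => simp [hfe]
    | succ n ih => rw [pow_succ, Units.val_mul, mul_assoc, mul_assoc, ← (key u hu h0).1,
        ← mul_assoc, ← mul_assoc, ih, zero_mul]
  obtain ⟨n, hn⟩ := (isOfFinOrder_of_finite u).mem_powers_iff_mem_zpowers.2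
    (inv_mem (Subgroup.mem_zpowers u))
  have hv0 : f * ((u⁻¹ : Cˣ) : C) * e = 0 := by rw [← hn]; exact hpow n
  obtain ⟨u1, u2⟩ := key u hu h0
  obtain ⟨v1, v2⟩ := key u⁻¹ (inv_mem hu) hv0
  have corner : ∀ (w v : Cˣ), (w : C) * v = 1 → e * (v * e) = v * e →
      ((w : C) * e + (1 - e)) * (v * e + (1 - e)) = 1 := by
    intro w v hwv h
    have h1 : (w : C) * e * (v * e) = e := by rw [mul_assoc, h, ← mul_assoc, hwv, one_mul]
    have h2 : (w : C) * e * (1 - e) = 0 := by rw [mul_assoc, mul_sub, he]; simp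
    have h3 : (1 - e) * (v * e) = 0 := by rw [sub_mul, h]; simp
    have h4 : (1 - e) * (1 - e) = 1 - e := by simp [mul_sub, sub_mul, he]
    simp only [add_mul, mul_add, h1, h2, h3, h4]; abel
  have corner' : ∀ (w v : Cˣ), (w : C) * v = 1 → f * w * f = f * w →
      (f * (w : C) + (1 - f)) * (f * v + (1 - f)) = 1 := by
    intro w v hwv h
    have h1 : f * (w : C) * (f * v) = f := by rw [← mul_assoc, h, mul_assoc, hwv, mul_one]
    have h2 : f * (w : C) * (1 - f) = 0 := by rw [mul_sub, h]; simp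
    have h3 : (1 - f) * (f * v) = 0 := by rw [← mul_assoc, sub_mul, hf]; simp
    have h4 : (1 - f) * (1 - f) = 1 - f := by simp [mul_sub, sub_mul, hf]
    simp only [add_mul, mul_add, h1, h2, h3, h4]; abel
  let a : Cˣ := ⟨u * e + (1 - e), (u⁻¹ : Cˣ) * e + (1 - e), corner u u⁻¹ u.mul_inv v1,
    corner u⁻¹ u u.inv_mul u1⟩
  let d : Cˣ := ⟨f * u + (1 - f), f * (u⁻¹ : Cˣ) + (1 - f), corner' u u⁻¹ u.mul_inv u2,
    corner' u⁻¹ u u.inv_mul v2⟩
  have h4 : (1 - e) * (1 - e) = 1 - e := by simp [mul_sub, sub_mul, he]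
  have h5 : (1 - f) * (1 - f) = 1 - f := by simp [mul_sub, sub_mul, hf]
  have ha : a ∈ Y e := by
    constructor
    · show ((u : C) * e + (1 - e)) * (1 - e) = 1 - e
      rw [add_mul, h4, mul_assoc, mul_sub, he]; simp
    · show (1 - e) * ((u : C) * e + (1 - e)) = 1 - e
      rw [mul_add, h4, sub_mul, u1]; simp
  have hd : d ∈ Y f := by
    constructor
    · show (f * (u : C) + (1 - f)) * (1 - f) = 1 - f
      rw [add_mul, h5, mul_sub, u2]; simp
    · show (1 - f) * (f * (u : C) + (1 - f)) = 1 - f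
      rw [mul_add, h5, ← mul_assoc, sub_mul, hf]; simp
  refine ⟨a, ha, d, hd, (u⁻¹ : Cˣ) * e * u * f, ?_, Units.ext ?_⟩
  · rw [memT, mul_assoc, mul_assoc _ f, hf, ← mul_assoc, ← mul_assoc, v1]
  · have h6 : (d : C) * e = e := (fix_f hf he hfe hef hd).1
    have h7 : e * ((u⁻¹ : Cˣ) * e * u * f) * f = e * ((u⁻¹ : Cˣ) * e * u * f) := by
      rw [mul_assoc, mul_assoc _ f, hf]
    have h8 : (a : C) * e = u * e := by
      show ((u : C) * e + (1 - e)) * e = u * e
      rw [add_mul, mul_assoc, sub_mul, he]; simp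
    have h9 : (u : C) * e * ((u⁻¹ : Cˣ) * e * u * f) = e * u * f := by
      rw [mul_assoc (u : C), ← mul_assoc e, ← mul_assoc e, v1, ← mul_assoc, ← mul_assoc,
        ← mul_assoc, u.mul_inv, one_mul]
    have h10 : (a : C) * d = u * e + f * u + (1 - (e + f)) := by
      show ((u : C) * e + (1 - e)) * (f * u + (1 - f)) = _
      have e1 : ∀ x, e * (f * x) = 0 := fun x => by rw [← mul_assoc, hef, zero_mul]
      simp only [add_mul, mul_add, mul_sub, sub_mul, mul_one, one_mul, mul_assoc, e1, hef, mul_zero]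
      abel
    have h11 := congrArg (· * f) hu.2
    simp only [sub_mul, add_mul, one_mul, hf, hef, u2] at h11
    have h12 := hu.1
    rw [mul_sub, mul_add, mul_one] at h12
    rw [Units.val_mul, Units.val_mul, nt_val, h7, mul_add, mul_one, mul_assoc (a : C) d,
      ← mul_assoc (d : C), h6, ← mul_assoc (a : C), h8, h9, h10, ← h12]
    rw [zero_add, sub_self, sub_eq_zero] at h11
    rw [h11]; abel

variable (τ : C →+ ZMod p) (hs : ∀ a b, τ (a * b) = τ (b * a))
  (hn : ∀ a, (∀ b, τ (a * b) = 0) → a = 0) {ψ : AddChar (ZMod p) ℂ} (hψ : ψ ≠ 1) (θ : Cˣ →* ℂ)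
  (hθ : ∀ u : Cˣ, ((u : C) - 1) * ((u : C) - 1) = 0 → θ u = 1)
include hs hn hψ hθ

theorem step1 : Φ τ ψ θ (e + f) =
    ∑ u ∈ univ.filter (fun u : Cˣ => u ∈ Y (e + f) ∧ f * u * e = 0), ψ (τ (u * (e + f))) * θ u := by
  have h1 : ∀ t ∈ T e f, Φ τ ψ θ (e + f) =
      ∑ u : Cˣ, (if u ∈ Y (e + f) then ψ (τ (u * (e + f))) * θ u else 0) * ψ (τ (u * t)) := by
    intro t ht
    rw [Φ, ← Equiv.sum_comp (Equiv.mulRight (nt hfe t))]
    refine Finset.sum_congr rfl fun u _ => ?_
    have h2 : t * (e + f) = t := by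
      rw [← memT.1 ht, mul_assoc, mul_add, hfe, hf, zero_add]
    simp only [Equiv.coe_mulRight, Subgroup.mul_mem_cancel_right _ (nt_mem he hf hef hfe t), map_mul,
      hθ _ (nt_sq hfe t), mul_one, Units.val_mul, nt_val, memT.1 ht, mul_assoc (u : C)]
    rw [add_mul 1 t, one_mul, h2, mul_add (u : C) (e + f), map_add τ, AddChar.map_add_eq_mul]
    split_ifs <;> ring
  have h2 : ∀ u : Cˣ, ∑ t ∈ T e f, ψ (τ (u * t)) = if f * u * e = 0 then ((T e f).card : ℂ) else 0 := by
    intro u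
    have h3 : ∀ b, τ (u * (e * b * f)) = τ (f * u * e * b) := fun b => by
      rw [← mul_assoc, hs]; simp only [mul_assoc]
    split_ifs with h
    · rw [Finset.sum_congr rfl (g := fun _ => 1) fun t ht => by
        rw [← memT.1 ht, h3, h, zero_mul, map_zero, AddChar.map_zero_eq_one]]
      simp
    · obtain ⟨b, hb⟩ := not_forall.1 (mt (hn _) h)
      have h4 : e * (e * b * f) * f = e * b * f := by
        rw [mul_assoc, mul_assoc _ f, hf, ← mul_assoc, ← mul_assoc, he]
      refine shift hψ (τ.comp (AddMonoidHom.mulLeft (u : C))) (T e f) (e * b * f) (fun t => ?_) ?_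
      · rw [memT, memT, mul_add, add_mul, h4, add_left_inj]
      · exact (h3 b).symm ▸ hb
  have h5 : ((T e f).card : ℂ) ≠ 0 := Nat.cast_ne_zero.2 (Finset.card_ne_zero.2 ⟨0, by simp [memT]⟩)
  apply mul_left_cancel₀ h5
  rw [← nsmul_eq_mul, ← Finset.sum_const, Finset.sum_congr rfl h1, Finset.sum_comm, Finset.sum_filter,
    Finset.mul_sum]
  refine Finset.sum_congr rfl fun u _ => ?_
  rw [← Finset.mul_sum, h2]
  by_cases a : u ∈ Y (e + f) <;> by_cases b : f * u * e = 0 <;> simp [a, b, mul_comm]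

theorem step : Φ τ ψ θ (e + f) = (T e f).card * (Φ τ ψ θ e * Φ τ ψ θ f) := by
  rw [step1 he hf hef hfe τ hs hn hψ θ hθ, Φ, Φ, ← Finset.sum_filter, ← Finset.sum_filter,
    Finset.sum_mul_sum, ← Finset.sum_product', ← nsmul_eq_mul, ← Finset.sum_const,
    ← Finset.sum_product']
  have F : ∀ (t : C) (a d : Cˣ), t ∈ T e f → a ∈ Y e → d ∈ Y f →
      ((a * d * nt hfe t : Cˣ) : C) * e = a * e ∧ f * ((a * d * nt hfe t : Cˣ) : C) = f * d ∧
        ((a * d * nt hfe t : Cˣ) : C) * f = d * f + a * t := by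
    intro t a d ht ha hd
    have t1 : t * e = 0 := by rw [← memT.1 ht, mul_assoc, hfe, mul_zero]
    have t2 : e * t = t := by rw [← memT.1 ht, ← mul_assoc, ← mul_assoc, he]
    have t3 : t * f = t := by rw [← memT.1 ht, mul_assoc, hf]
    have t4 : f * t = 0 := by rw [← t2, ← mul_assoc, hfe, zero_mul]
    obtain ⟨a1, a2⟩ := fix_f he hf hef hfe ha
    obtain ⟨d1, d2⟩ := fix_f hf he hfe hef hd
    have d3 := comm_e hf he hfe hef hd
    have d4 : (d : C) * t = t := by rw [← t2, ← mul_assoc, d1]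
    rw [Units.val_mul, Units.val_mul, nt_val, memT.1 ht]
    refine ⟨?_, ?_, ?_⟩
    · rw [mul_assoc, add_mul, t1, add_zero, one_mul, mul_assoc, d1]
    · rw [← mul_assoc, ← mul_assoc, a2, mul_add, mul_one, mul_assoc, d4, t4, add_zero]
    · rw [mul_assoc, add_mul, one_mul, t3, mul_add, mul_assoc, mul_assoc, d4, d3, ← mul_assoc, a1]
  symm
  refine Finset.sum_bij (fun x _ => x.2.1 * x.2.2 * nt hfe x.1) ?_ ?_ ?_ ?_
  · rintro ⟨t, a, d⟩ h
    simp only [mem_product, mem_filter, mem_univ, true_and] at h ⊢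
    refine ⟨mul_mem (mul_mem (le_left he hf hef hfe h.2.1) (le_right he hf hef hfe h.2.2))
      (nt_mem he hf hef hfe t), ?_⟩
    rw [(F t a d h.1 h.2.1 h.2.2).2.1, mul_assoc, (fix_f hf he hfe hef h.2.2).1, hfe]
  · rintro ⟨t, a, d⟩ h ⟨t', a', d'⟩ h' hh
    simp only [mem_product, mem_filter, mem_univ, true_and] at h h' hh
    obtain ⟨x1, x2, -⟩ := F t a d h.1 h.2.1 h.2.2
    obtain ⟨y1, y2, -⟩ := F t' a' d' h'.1 h'.2.1 h'.2.2
    rw [hh, y1] at x1
    rw [hh, y2] at x2
    have ea : a = a' := Units.ext (by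
      have := h.2.1.1.trans h'.2.1.1.symm
      rwa [mul_sub, mul_sub, x1, mul_one, mul_one, sub_left_inj] at this)
    have ed : d = d' := Units.ext (by
      have := h.2.2.2.trans h'.2.2.2.symm
      rwa [sub_mul, sub_mul, x2, one_mul, one_mul, sub_left_inj] at this)
    subst ea ed
    have := congrArg Units.val (mul_left_cancel hh)
    rw [nt_val, nt_val, memT.1 h.1, memT.1 h'.1, add_right_inj] at this
    rw [this]
  · intro u hu
    simp only [mem_filter, mem_univ, true_and] at hu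
    obtain ⟨a, ha, d, hd, t, ht, rfl⟩ := fac he hf hef hfe hu.1 hu.2
    exact ⟨(t, a, d), by simp [ha, hd, ht], rfl⟩
  · rintro ⟨t, a, d⟩ h
    simp only [mem_product, mem_filter, mem_univ, true_and] at h
    obtain ⟨x1, -, x3⟩ := F t a d h.1 h.2.1 h.2.2
    have h0 : τ (a * t) = 0 := by
      rw [← memT.1 h.1, ← mul_assoc, hs, ← mul_assoc, ← mul_assoc, (fix_f he hf hef hfe h.2.1).2, hfe,
        zero_mul, map_zero]
    simp only
    rw [mul_add, x1, x3, map_add τ, map_add τ, h0, add_zero, AddChar.map_add_eq_mul, map_mul θ, map_mul θ,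
      hθ _ (nt_sq hfe t)]
    ring

end step

end CL.K91
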